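import Mathlib

/-!
Descent of elements of flat modules along extensions in which the base is pure.
-/

set_option autoImplicit false

universe u

open TensorProduct

namespace NormDescTorsLib

variable {R K L R' : Type u} [CommRing R] [IsDomain R] [Field K] [Algebra R K] [IsFractionRing R K]
  [Field L] [Algebra R L] [CommRing R'] [Algebra R R']
  {M : Type u} [AddCommGroup M] [Module R M] [Module.Flat R M]

omit [Module.Flat R M] in
theorem exists_smul_eq_tmul (ξ : M ⊗[R] K) : ∃ d : R, d ≠ 0 ∧ ∃ n : M, d • ξ = n ⊗ₜ (1 : K) := by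
  induction ξ using TensorProduct.induction_on with
  | zero => exact ⟨1, one_ne_zero, 0, by simp⟩
  | tmul m k =>
    obtain ⟨a, d, hd, rfl⟩ := IsFractionRing.div_surjective (A := R) k
    refine ⟨d, nonZeroDivisors.ne_zero hd, a • m, ?_⟩
    rw [smul_tmul', smul_tmul, smul_tmul]
    congr 1
    rw [Algebra.smul_def, Algebra.smul_def, mul_one, mul_div_cancel₀]
    exact IsFractionRing.to_map_ne_zero_of_mem_nonZeroDivisors hd
  | add x y hx hy =>
    obtain ⟨d, hd, n, hn⟩ := hx
    obtain ⟨e, he, k, hk⟩ := hy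
    refine ⟨d * e, mul_ne_zero hd he, e • n + d • k, ?_⟩
    rw [smul_add, mul_smul, mul_smul, smul_comm d e x, hn, hk, smul_tmul', smul_tmul', add_tmul]

/-- An element of `M ⊗ K` which after a further extension comes from `M ⊗ R'` comes from `M`, when `R` is pure in `R'`. -/
theorem exists_tmul_one_eq (i : K →ₐ[R] L) (j : R' →ₐ[R] L) (hj : Function.Injective j)
    (hpure : ∀ (a d : R) (r : R'), d ≠ 0 → algebraMap R R' a = d • r → d ∣ a)
    (ξ : M ⊗[R] K) (η : M ⊗[R] R')
    (h : i.toLinearMap.lTensor M ξ = j.toLinearMap.lTensor M η) : ∃ m : M, m ⊗ₜ (1 : K) = ξ := by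
  obtain ⟨d, hd, n, hn⟩ := exists_smul_eq_tmul ξ
  have h1 : n ⊗ₜ (1 : R') = d • η := by
    apply Module.Flat.lTensor_preserves_injective_linearMap (M := M) j.toLinearMap hj
    rw [map_smul, ← h, ← map_smul, hn]
    simp
  let I : Ideal R := Ideal.span {d}
  let I' : Submodule R R' := LinearMap.range (d • LinearMap.id : R' →ₗ[R] R')
  let f : (R ⧸ I) →ₗ[R] (R' ⧸ I') := Submodule.mapQ I I' (Algebra.linearMap R R') (by
    intro x hx
    obtain ⟨c, rfl⟩ := Ideal.mem_span_singleton'.1 hx
    exact ⟨algebraMap R R' c, by simp [Algebra.smul_def, mul_comm]⟩)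
  have hf : Function.Injective f := by
    rw [← LinearMap.ker_eq_bot, LinearMap.ker_eq_bot']
    intro x hx
    obtain ⟨x, rfl⟩ := Submodule.Quotient.mk_surjective I x
    rw [Submodule.mapQ_apply, Submodule.Quotient.mk_eq_zero] at hx
    obtain ⟨r, hr⟩ := hx
    rw [Submodule.Quotient.mk_eq_zero]
    exact Ideal.mem_span_singleton.2 (hpure x d r hd hr.symm)
  have h2 : n ⊗ₜ[R] (Submodule.Quotient.mk (1 : R) : R ⧸ I) = 0 := by
    apply Module.Flat.lTensor_preserves_injective_linearMap (M := M) f hf
    rw [map_zero, LinearMap.lTensor_tmul, Submodule.mapQ_apply]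
    have hz : I'.mkQ.comp (d • LinearMap.id) = 0 := LinearMap.ext fun x =>
      (Submodule.Quotient.mk_eq_zero _).2 ⟨x, rfl⟩
    have h3 := congrArg (I'.mkQ.lTensor M) h1
    rw [LinearMap.lTensor_tmul, map_smul] at h3
    show n ⊗ₜ[R] I'.mkQ (algebraMap R R' 1) = 0
    rw [map_one, h3]
    have := congrArg (fun g : R' →ₗ[R] R' ⧸ I' => g.lTensor M η) hz
    simpa [LinearMap.comp_smul, LinearMap.lTensor_smul] using this
  have h4 : n ∈ I • (⊤ : Submodule R M) := by
    have := congrArg (TensorProduct.tensorQuotEquivQuotSMul M I) h2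
    rw [map_zero] at this
    erw [TensorProduct.tensorQuotEquivQuotSMul_tmul_mk] at this
    rwa [one_smul, Submodule.Quotient.mk_eq_zero] at this
  rw [Submodule.ideal_span_singleton_smul, Submodule.mem_smul_pointwise_iff_exists] at h4
  obtain ⟨m, -, rfl⟩ := h4
  refine ⟨m, ?_⟩
  have hu : algebraMap R K d ≠ 0 := by simpa using hd
  have e : ∀ x : M ⊗[R] K, LinearMap.lTensor M (LinearMap.mul R K (algebraMap R K d)⁻¹) (d • x) = x := fun x => by
    rw [LinearMap.map_smul, ← LinearMap.smul_apply, ← LinearMap.lTensor_smul]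
    have : d • LinearMap.mul R K (algebraMap R K d)⁻¹ = LinearMap.id := LinearMap.ext fun y => by
      show d • ((algebraMap R K d)⁻¹ * y) = y
      rw [Algebra.smul_def]
      rw [← mul_assoc, mul_inv_cancel₀ hu, one_mul]
    rw [this, LinearMap.lTensor_id, LinearMap.id_apply]
  rw [← e (m ⊗ₜ 1), ← e ξ, hn, smul_tmul']

/-- An integrally closed domain is pure in an integral closure. -/
theorem dvd_of_mem_integralClosure [IsIntegrallyClosed R] [Algebra K L] [IsScalarTower R K L]
    (a d : R) (r : integralClosure R L) (hd : d ≠ 0) (h : algebraMap R (integralClosure R L) a = d • r) : d ∣ a := by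
  have hu : algebraMap R K d ≠ 0 := by simpa using hd
  have h' : algebraMap R L a = algebraMap R L d * (r : L) := by
    rw [← Algebra.smul_def]; exact congrArg Subtype.val h
  have hr : (r : L) = algebraMap K L (algebraMap R K a / algebraMap R K d) := by
    rw [map_div₀, ← IsScalarTower.algebraMap_apply, ← IsScalarTower.algebraMap_apply, h', mul_div_cancel_left₀]
    rw [IsScalarTower.algebraMap_apply R K L]
    simpa using hu
  have hint : IsIntegral R (algebraMap K L (algebraMap R K a / algebraMap R K d)) := hr ▸ r.2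
  obtain ⟨c, hc⟩ := IsIntegrallyClosed.isIntegral_iff.1
    ((isIntegral_algebraMap_iff (algebraMap K L).injective).1 hint)
  refine ⟨c, IsFractionRing.injective R K ?_⟩
  rw [map_mul, hc, mul_div_cancel₀ _ hu]

end NormDescTorsLib
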