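import Groth.Agent.NormDescTorsLib.Torsor

/-!
Morphisms of base changes as morphisms over the base.
-/

set_option autoImplicit false
set_option backward.isDefEq.respectTransparency false
universe u

open CategoryTheory CategoryTheory.Limits MonoidalCategory CartesianMonoidalCategory AlgebraicGeometry MonObj
open NonAbH1

noncomputable section

namespace NormDescTorsLib

theorem equivIso_of_eqvGen {S : Scheme.{u}} {G : Over S} [GrpObj G] {K : Precoverage Scheme.{u}}
    {P Q : TorsorSch G K}
    (h : Relation.EqvGen (fun P Q : TorsorSch G K => Nonempty (EquivIso P.act Q.act)) P Q) :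
    Nonempty (EquivIso P.act Q.act) := by
  induction h with
  | rel _ _ h => exact h
  | refl x => exact ⟨⟨Iso.refl _, by simp⟩⟩
  | symm x y _ h =>
    obtain ⟨e⟩ := h
    refine ⟨⟨e.iso.symm, ?_⟩⟩
    rw [← cancel_mono e.iso.hom, Category.assoc, Iso.symm_hom, Iso.inv_hom_id, Category.comp_id, Category.assoc,
      e.comm, ← MonoidalCategory.whiskerLeft_comp_assoc, Iso.inv_hom_id, MonoidalCategory.whiskerLeft_id,
      Category.id_comp]
  | trans x y z _ _ h1 h2 =>
    obtain ⟨e1⟩ := h1
    obtain ⟨e2⟩ := h2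
    refine ⟨⟨e1.iso ≪≫ e2.iso, ?_⟩⟩
    rw [Iso.trans_hom, MonoidalCategory.whiskerLeft_comp, Category.assoc, reassoc_of% e1.comm, e2.comm]

variable {S S' : Scheme.{u}} (f : S' ⟶ S) {G P Q : Over S} [GrpObj G]

/-- A morphism of generic fibres, as a morphism to the scheme over the base. -/
def bcHom (e : Red.bc f P ⟶ Red.bc f Q) : P ⊗ (Over.mk f) ⟶ Q :=
  Over.homMk (e.left ≫ pullback.fst Q.hom f) (by
    have h : e.left ≫ pullback.snd Q.hom f = pullback.snd P.hom f := Over.w e
    rw [Category.assoc, pullback.condition, ← Category.assoc, h, ← pullback.condition]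
    rfl)

theorem bcHom_equivariant (aP : AlgGrp.Action G P) (aQ : AlgGrp.Action G Q)
    (e : Red.bc f P ⟶ Red.bc f Q)
    (he : (aP.bc f).act ≫ e = (Red.bc f G ◁ e) ≫ (aQ.bc f).act)
    (T : Over S) (g : T ⟶ G) (x : T ⟶ P) (k : T ⟶ (Over.mk f)) :
    lift (lift g x ≫ aP.act) k ≫ bcHom f e = lift g (lift x k ≫ bcHom f e) ≫ aQ.act := by
  let T' : Over S' := Over.mk k.left
  let θ : (Over.map f).obj T' ≅ T := Over.isoMk (Iso.refl _) (by simpa [T'] using (Over.w k).symm)
  rw [← cancel_epi θ.hom]
  let adj := fun X => (Over.mapPullbackAdj f).homEquiv T' X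
  have hfst : ∀ (X : Over S) (y : (Over.map f).obj T' ⟶ X),
      (adj X y).left ≫ pullback.fst X.hom f = y.left := fun X y => by
    have h := congrArg Over.Hom.left ((adj X).symm_apply_apply y)
    simp only [adj, Adjunction.homEquiv_counit, Over.comp_left] at h
    exact h
  have key : ∀ y : T ⟶ P, (θ.hom ≫ lift y k ≫ bcHom f e).left =
      (adj P (θ.hom ≫ y) ≫ e).left ≫ pullback.fst Q.hom f := by
    intro y
    rw [Over.comp_left, Over.comp_left, Over.comp_left, Category.assoc]
    change θ.hom.left ≫ (lift y k).left ≫ e.left ≫ pullback.fst Q.hom f = _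
    rw [← Category.assoc θ.hom.left]
    congr 1
    apply pullback.hom_ext
    · refine Eq.trans ?_ (hfst P (θ.hom ≫ y)).symm
      refine (Category.assoc _ _ _).trans ?_
      rw [Over.comp_left]
      exact congrArg (θ.hom.left ≫ ·) (congrArg Over.Hom.left (lift_fst y k))
    · refine Eq.trans ?_ (Over.w (adj P (θ.hom ≫ y))).symm
      refine (Category.assoc _ _ _).trans ((congrArg (θ.hom.left ≫ ·) (congrArg Over.Hom.left (lift_snd y k))).trans ?_)
      exact Category.id_comp _
  have hQ : adj P (θ.hom ≫ x) ≫ e = adj Q (θ.hom ≫ lift x k ≫ bcHom f e) := by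
    refine Over.OverMorphism.ext (pullback.hom_ext ?_ ?_)
    · rw [hfst, key]
    · exact (Over.w _).trans (Over.w _).symm
  refine Over.OverMorphism.ext ?_
  rw [key, comp_lift_assoc, ← hfst Q]
  congr 2
  change adj P (θ.hom ≫ lift g x ≫ aP.act) ≫ e = adj Q _
  rw [comp_lift_assoc θ.hom g x, comp_lift_assoc θ.hom g (lift x k ≫ bcHom f e), ← AlgGrp.Action.lift_homEquiv_bc_act, ← AlgGrp.Action.lift_homEquiv_bc_act, Category.assoc, he,
    lift_whiskerLeft_assoc]
  rw [hQ]

end NormDescTorsLib
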