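import Groth.Agent.NormDescTorsLib.Torsor
import Groth.Agent.NormalExtLib.Scheme
import Groth.Agent.GrpFieldLib.Comps

/-!
Torsors under étale groups over fields, over normal integral bases: generic sections extend.
-/

set_option autoImplicit false
set_option backward.isDefEq.respectTransparency false
set_option linter.style.haveILetI false

universe u

open CategoryTheory CategoryTheory.Limits MonoidalCategory CartesianMonoidalCategory AlgebraicGeometry TopologicalSpace
open NonAbH1 TorsExtLib
open Groth.Agent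

noncomputable section

namespace NormDescTorsLib

theorem locallyQuasiFinite_of_etale {Z X : Scheme.{u}} (p : Z ⟶ X) [Etale p] : LocallyQuasiFinite p := by
  rw [locallyQuasiFinite_iff]
  intro U hU V hV e
  have h := p.etale_appLE hU hV e
  algebraize [(p.appLE U V e).hom]
  exact (inferInstance : Algebra.QuasiFinite Γ(X, U) Γ(Z, V))

/-- A scheme étale over a field is universally specializing over it. -/
theorem specializingMap_snd_of_etale {k : Type u} [Field k] {G : Scheme.{u}} (p : G ⟶ Spec (CommRingCat.of k))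
    [Etale p] [IsSeparated p] {T : Scheme.{u}} (f : T ⟶ Spec (CommRingCat.of k)) :
    SpecializingMap (pullback.snd p f) := by
  intro w t hwt
  haveI := locallyQuasiFinite_of_etale p
  have hd : DiscreteTopology G := by
    have h := p.isDiscrete_preimage_singleton (IsLocalRing.closedPoint k)
    rw [show p ⁻¹' {IsLocalRing.closedPoint k} = Set.univ from Set.eq_univ_of_forall fun g => Subsingleton.elim _ _,
      isDiscrete_univ_iff] at h
    exact h
  let U : G.Opens := ⟨{pullback.fst p f w}, isOpen_discrete _⟩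
  haveI : Finite (U : Scheme.{u}) := Set.Finite.to_subtype (Set.finite_singleton _)
  haveI : CompactSpace (U : Scheme.{u}) := Finite.compactSpace
  haveI : QuasiCompact (U.ι ≫ p) := quasiCompact_of_compactSpace _
  haveI : IsFinite (U.ι ≫ p) := IsFinite.of_locallyQuasiFinite _
  let m : pullback (U.ι ≫ p) f ⟶ pullback p f :=
    pullback.map _ _ p f U.ι (𝟙 _) (𝟙 _) (by rw [Category.comp_id]) (by rw [Category.comp_id, Category.id_comp])
  obtain ⟨w', hw'⟩ : w ∈ Set.range m := by
    rw [Scheme.Pullback.range_map]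
    exact ⟨⟨⟨_, rfl⟩, rfl⟩, ⟨_, rfl⟩⟩
  have hm : m ≫ pullback.snd p f = pullback.snd (U.ι ≫ p) f := by
    simp only [m, pullback.lift_snd, Category.comp_id]
  have hsp : SpecializingMap (pullback.snd (U.ι ≫ p) f) := (Scheme.Hom.isClosedMap _).specializingMap
  obtain ⟨z, hz, hzt⟩ := hsp (a := w') (show pullback.snd (U.ι ≫ p) f w' ⤳ t by
    rw [← hm, Scheme.Hom.comp_apply, hw']; exact hwt)
  exact ⟨m z, hw' ▸ hz.map m.continuous, by rw [← Scheme.Hom.comp_apply, hm]; exact hzt⟩

/-- A morphism from the spectrum of the residue field of the generic point to a reduced open piece is dominant. -/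
theorem isDominant_of_gen {S T : Scheme.{u}} [IsIntegral S] (i : T ⟶ S) [IsOpenImmersion i]
    (j : Spec (S.residueField (genericPoint S)) ⟶ T) (hj : j ≫ i = S.fromSpecResidueField (genericPoint S)) :
    IsDominant j := by
  refine ⟨fun t => ?_⟩
  have hsp : j (IsLocalRing.closedPoint _) ⤳ t := by
    rw [← i.isOpenEmbedding.isInducing.specializes_iff, ← Scheme.Hom.comp_apply, hj, Scheme.fromSpecResidueField_apply]
    exact genericPoint_specializes _
  exact hsp.mem_closed isClosed_closure (subset_closure ⟨_, rfl⟩)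

/-- A scheme separated, étale and specializing over a normal integral base: generic sections extend. -/
theorem exists_section_extending {S E : Scheme.{u}} [IsIntegral S] (hS : Pi1.IsNormalScheme S) (q : E ⟶ S)
    [LocallyOfFiniteType q] [LocallyQuasiFinite q] [IsSeparated q]
    (x : Spec (S.residueField (genericPoint S)) ⟶ E) (hx : x ≫ q = S.fromSpecResidueField (genericPoint S))
    (hlift : ∀ s : S, ∃ y : E, q y = s ∧ x (IsLocalRing.closedPoint _) ⤳ y) :
    ∃ σ : S ⟶ E, σ ≫ q = 𝟙 S ∧ S.fromSpecResidueField (genericPoint S) ≫ σ = x := by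
  let η : S := genericPoint S
  haveI : IsDomain (S.presheaf.stalk η) := (hS η).1
  haveI : IsIso (Spec.map (S.residue η)) := by
    haveI : IsIso (S.residue η) := by
      rw [ConcreteCategory.isIso_iff_bijective]
      exact ⟨RingHom.injective (show S.functionField →+* S.residueField η from (S.residue η).hom), S.residue_surjective η⟩
    infer_instance
  haveI : IsIntegral ((⊤ : S.Opens) : Scheme.{u}) := by
    haveI : Nonempty ((⊤ : S.Opens) : Scheme.{u}) := ⟨⟨η, trivial⟩⟩
    exact isIntegral_of_isOpenImmersion (⊤ : S.Opens).ι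
  haveI := NormalExtLib.isGermInjectiveAt (W := (⊤ : S.Opens)) (x := η) trivial
  have hσ₀ : (inv (Spec.map (S.residue η)) ≫ x) ≫ q = S.fromSpecStalk η := by
    rw [Category.assoc, hx, IsIso.inv_comp_eq]
    rfl
  obtain ⟨U, hηU, h, -, hh, hhx⟩ := NormalExtLib.exists_spread q η ⊤ trivial _ hσ₀
  let jU : Spec (S.residueField η) ⟶ (U : Scheme.{u}) := Spec.map (S.residue η) ≫ U.fromSpecStalkOfMem η hηU
  have hjU : jU ≫ U.ι = S.fromSpecResidueField η := by
    simp only [jU, Category.assoc, Scheme.Opens.fromSpecStalkOfMem_ι]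
    rfl
  have hjUh : jU ≫ h = x := by
    simp only [jU, Category.assoc, hhx, IsIso.hom_inv_id_assoc]
  have hloc : ∀ s : S, ∃ (V : S.Opens) (hsV : s ∈ V) (f : (V : Scheme.{u}) ⟶ E) (j : Spec (S.residueField η) ⟶ V),
      f ≫ q = V.ι ∧ j ≫ V.ι = S.fromSpecResidueField η ∧ j ≫ f = x := by
    intro s
    haveI : IsDomain (S.presheaf.stalk s) := (hS s).1
    obtain ⟨y, hy, hsy⟩ := hlift s
    have hgen : NormalExtLib.genPt s = η :=
      ((genericPoint_specializes (NormalExtLib.genPt s)).antisymm
        (NormalExtLib.genPt_specializes s (W := ⊤) trivial trivial)).eq.symm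
    have hpt : (NormalExtLib.genLift s (V := U) (hgen ▸ hηU) ≫ h) (IsLocalRing.closedPoint _) =
        x (IsLocalRing.closedPoint _) := by
      rw [← hjUh, Scheme.Hom.comp_apply, Scheme.Hom.comp_apply]
      congr 1
      apply U.ι.isOpenEmbedding.injective
      rw [NormalExtLib.genLift_apply, hgen, ← Scheme.Hom.comp_apply, hjU, Scheme.fromSpecResidueField_apply]
    obtain ⟨V₀, hV₀, hV₀'⟩ : ∃ V₀ : Set E, IsOpen V₀ ∧ V₀ ∩ q ⁻¹' {s} = {y} :=
      isDiscrete_iff_forall_mem_exists_isOpen.1 (q.isDiscrete_preimage_singleton s) y hy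
    obtain ⟨V, hsV, f, hf, -, hfU⟩ := NormalExtLib.exists_section_nhd q s (hS s).2 (W := ⊤) trivial U
      (hgen ▸ hηU) h hh y hy (by rw [hpt]; exact hsy)
      ⟨⟨V₀, hV₀⟩, show y ∈ V₀ from ((Set.ext_iff.1 hV₀' y).2 rfl).1, fun z hz _ hzs => (Set.ext_iff.1 hV₀' z).1 ⟨hz, hzs⟩⟩
    have hηV : η ∈ V := (genericPoint_specializes s).mem_open V.isOpen hsV
    let j : Spec (S.residueField η) ⟶ (V : Scheme.{u}) := IsOpenImmersion.lift V.ι (S.fromSpecResidueField η) (by
      erw [Scheme.Opens.range_ι]
      rintro _ ⟨z, rfl⟩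
      erw [Scheme.fromSpecResidueField_apply]
      exact hηV)
    let j' : Spec (S.residueField η) ⟶ ((U ⊓ V : S.Opens) : Scheme.{u}) :=
      IsOpenImmersion.lift (U ⊓ V).ι (S.fromSpecResidueField η) (by
        erw [Scheme.Opens.range_ι]
        rintro _ ⟨z, rfl⟩
        erw [Scheme.fromSpecResidueField_apply]
        exact ⟨hηU, hηV⟩)
    have hj : j ≫ V.ι = S.fromSpecResidueField η := IsOpenImmersion.lift_fac _ _ _
    have hj' : j' ≫ (U ⊓ V).ι = S.fromSpecResidueField η := IsOpenImmersion.lift_fac _ _ _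
    refine ⟨V, hsV, f, j, hf, hj, ?_⟩
    have e1 : j' ≫ S.homOfLE (inf_le_right : U ⊓ V ≤ V) = j := by
      rw [← cancel_mono V.ι, Category.assoc, Scheme.homOfLE_ι, hj', hj]
    have e2 : j' ≫ S.homOfLE (inf_le_left : U ⊓ V ≤ U) = jU := by
      rw [← cancel_mono U.ι, Category.assoc, Scheme.homOfLE_ι, hj', hjU]
    rw [← e1, Category.assoc, hfU, ← Category.assoc, e2, hjUh]
  choose V hV f j hf hj hjf using hloc
  let 𝒰 : S.OpenCover := Scheme.openCoverOfIsOpenCover _ V
    (IsOpenCover.mk (eq_top_iff.2 fun s _ => Opens.mem_iSup.2 ⟨s, hV s⟩))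
  have hglue : ∀ a b, pullback.fst (V a).ι (V b).ι ≫ f a = pullback.snd (V a).ι (V b).ι ≫ f b := by
    intro a b
    haveI : IsReduced (pullback (V a).ι (V b).ι) :=
      isReduced_of_isOpenImmersion (pullback.fst (V a).ι (V b).ι ≫ (V a).ι)
    haveI := isDominant_of_gen (pullback.fst (V a).ι (V b).ι ≫ (V a).ι)
      (pullback.lift (j a) (j b) ((hj a).trans (hj b).symm)) (by rw [pullback.lift_fst_assoc]; first | done | exact hj a)
    refine ext_of_isDominant_of_isSeparated q ?_ (pullback.lift (j a) (j b) ((hj a).trans (hj b).symm)) ?_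
    · rw [Category.assoc, Category.assoc, hf, hf, pullback.condition]
    · rw [pullback.lift_fst_assoc, pullback.lift_snd_assoc, hjf, hjf]
  refine ⟨𝒰.glueMorphisms f hglue, 𝒰.hom_ext _ _ fun s => ?_, ?_⟩
  · show (V s).ι ≫ _ ≫ q = (V s).ι ≫ 𝟙 S
    rw [← Category.assoc, Category.comp_id]
    exact (congrArg (· ≫ q) (𝒰.ι_glueMorphisms f hglue s)).trans (hf s)
  · rw [← hj η, Category.assoc]
    exact (congrArg (j η ≫ ·) (𝒰.ι_glueMorphisms f hglue η)).trans (hjf η)

/-- Sections are determined at the generic point. -/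
theorem section_ext {S E : Scheme.{u}} [IsIntegral S] (q : E ⟶ S) [IsSeparated q] (σ₁ σ₂ : S ⟶ E)
    (h₁ : σ₁ ≫ q = 𝟙 S) (h₂ : σ₂ ≫ q = 𝟙 S)
    (h : S.fromSpecResidueField (genericPoint S) ≫ σ₁ = S.fromSpecResidueField (genericPoint S) ≫ σ₂) : σ₁ = σ₂ := by
  haveI := isDominant_of_gen (𝟙 S) (S.fromSpecResidueField (genericPoint S)) (Category.comp_id _)
  exact ext_of_isDominant_of_isSeparated q (h₁.trans h₂.symm) _ h

variable {k : Type u} [Field k] {G : Over (Spec (CommRingCat.of k))} [GrpObj G] [Etale G.hom]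
  {S : Scheme.{u}} (s : S ⟶ Spec (CommRingCat.of k)) (E : TorsorSch (Red.bc s G) Scheme.fppfPrecoverage)

theorem etale_bc : Etale (Red.bc s G).hom := by
  show Etale (pullback.snd G.hom s); infer_instance

theorem isSeparated_bc : IsSeparated (Red.bc s G).hom := by
  haveI : IsSeparated G.hom := GrpField.isSeparated_grp
  show IsSeparated (pullback.snd G.hom s); infer_instance

theorem etale_torsor : Etale E.X.hom := by
  obtain ⟨hp, R, hR, hsec⟩ := E.isTorsor
  exact TorsFpqc.property_of_torsor @Etale E.act ⟨hp, R, Scheme.fppfPrecoverage_le_fpqcPrecoverage _ hR, hsec⟩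
    (etale_bc s)

theorem isSeparated_torsor : IsSeparated E.X.hom := by
  obtain ⟨T, hTf, hTs, hTp, ⟨p⟩⟩ := exists_cover E.isTorsor.2
  haveI : IsSeparated (snd E.X T).left := property_of_point E.act E.isTorsor.1 (Q := @IsSeparated) (isSeparated_bc s) p
  have hd : (MorphismProperty.diagonal @UniversallyClosed) E.X.hom :=
    MorphismProperty.of_isPullback_of_descendsAlong (P := MorphismProperty.diagonal @UniversallyClosed)
      (Q := @Surjective ⊓ @Flat ⊓ @LocallyOfFinitePresentation)
      (isPullback_fst_snd E.X T).flip ⟨⟨hTs, hTf⟩, hTp⟩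
      (show UniversallyClosed (pullback.diagonal (snd E.X T).left) from inferInstance)
  haveI : UniversallyClosed (pullback.diagonal E.X.hom) := hd
  exact ⟨IsClosedImmersion.of_isPreimmersion _ (Scheme.Hom.isClosedMap _).isClosed_range⟩

theorem exists_lift_torsor [IsIntegral S] (z : E.X.left) (hz : E.X.hom z = genericPoint S) (x : S) :
    ∃ y : E.X.left, E.X.hom y = x ∧ z ⤳ y := by
  obtain ⟨T, hTf, hTs, -, ⟨p⟩⟩ := exists_cover E.isTorsor.2
  obtain ⟨t, rfl⟩ := hTs.surj x
  haveI := hTf
  obtain ⟨t', htt, ht'⟩ := Flat.generalizingMap T.hom (genericPoint_specializes (T.hom t))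
  obtain ⟨w, hw1, hw2⟩ := Scheme.Pullback.exists_preimage_pullback (f := E.X.hom) (g := T.hom) z t'
    (hz.trans ht'.symm)
  haveI : IsIso (orb E.act p) := isIso_orb E.act E.isTorsor.1 p
  haveI : IsSeparated G.hom := GrpField.isSeparated_grp
  let e : pullback (Red.bc s G).hom T.hom ⟶ pullback E.X.hom T.hom := (orb E.act p).left
  haveI : IsIso e := inferInstanceAs (IsIso ((Over.forget S).map (orb E.act p)))
  have he : e ≫ pullback.snd E.X.hom T.hom = pullback.snd (Red.bc s G).hom T.hom :=
    congrArg Over.Hom.left (show orb E.act p ≫ snd E.X T = snd (Red.bc s G) T from lift_snd _ _)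
  have sq := (IsPullback.of_hasPullback (Red.bc s G).hom T.hom).flip.paste_vert
    (IsPullback.of_hasPullback G.hom s).flip
  have hsp : SpecializingMap (pullback.snd (Red.bc s G).hom T.hom) := by
    have := specializingMap_snd_of_etale G.hom (T.hom ≫ s)
    intro a b hab
    have hi := sq.flip.isoPullback_hom_snd
    obtain ⟨c, hc, hcb⟩ := this (a := sq.flip.isoPullback.hom a) (by
      rw [← Scheme.Hom.comp_apply, hi]; exact hab)
    refine ⟨sq.flip.isoPullback.inv c, ?_, ?_⟩
    · have := hc.map sq.flip.isoPullback.inv.continuous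
      rwa [← Scheme.Hom.comp_apply, Iso.hom_inv_id] at this
    · rw [← Scheme.Hom.comp_apply, sq.flip.isoPullback_inv_snd]
      exact hcb
  obtain ⟨c, hc, hct⟩ := hsp (a := inv e w) (b := t) (by
    rw [← he, ← Scheme.Hom.comp_apply, IsIso.inv_hom_id_assoc, hw2]; exact htt)
  refine ⟨pullback.fst E.X.hom T.hom (e c), ?_, ?_⟩
  · rw [← Scheme.Hom.comp_apply, pullback.condition, Scheme.Hom.comp_apply, ← Scheme.Hom.comp_apply e, he, hct]
  · have := (hc.map e.continuous).map (pullback.fst E.X.hom T.hom).continuous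
    rwa [← Scheme.Hom.comp_apply (inv e), IsIso.inv_hom_id, show (𝟙 (pullback E.X.hom T.hom) : _ ⟶ _) w = w from rfl,
      hw1] at this

end NormDescTorsLib
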