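import Groth.Agent.NormExtLib.Main
import Groth.Agent.NormDescTorsLib.Alg
import Groth.Agent.TorsExtLib.Cart

/-!
Over a normal integral base, a morphism on the generic fibre of a flat affine scheme extends when it extends
over the integral closures of the affine opens in an algebraic closure of the function field.
-/

set_option autoImplicit false
set_option backward.isDefEq.respectTransparency false
set_option maxHeartbeats 800000
set_option linter.style.haveILetI false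

universe u

open CategoryTheory CategoryTheory.Limits MonoidalCategory CartesianMonoidalCategory AlgebraicGeometry
open scoped TensorProduct
open Groth.Agent

noncomputable section

namespace NormDescTorsLib

variable {X : Scheme.{u}}

section Points

variable {U : X.Opens} (hU : IsAffineOpen U)

/-- The point of the base given by an algebra over the functions on an affine open. -/
abbrev pt (C : Type u) [CommRing C] [Algebra Γ(X, U) C] : Over X :=
  Over.mk (Spec.map (CommRingCat.ofHom (algebraMap Γ(X, U) C)) ≫ hU.fromSpec)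

/-- The morphism of points given by an algebra homomorphism. -/
def ptMap {C C' : Type u} [CommRing C] [Algebra Γ(X, U) C] [CommRing C'] [Algebra Γ(X, U) C']
    (f : C →ₐ[Γ(X, U)] C') : pt hU C' ⟶ pt hU C :=
  Over.homMk (Spec.map (CommRingCat.ofHom f.toRingHom)) (by
    show Spec.map _ ≫ Spec.map _ ≫ _ = _
    rw [← Category.assoc, ← Spec.map_comp, ← CommRingCat.ofHom_comp,
      show f.toRingHom.comp (algebraMap Γ(X, U) C) = algebraMap Γ(X, U) C' from f.comp_algebraMap]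
    rfl)

variable {Y : Over X} {V : Y.left.Opens} (hV : IsAffineOpen V) (hVU : V ≤ Y.hom ⁻¹ᵁ U)
  (C : Type u) [CommRing C] [Algebra Γ(X, U) C]

/-- The chart of a fibre product with a point. -/
abbrev chart : letI := NormExt.algAppLE Y.hom hVU
    Spec (CommRingCat.of (Γ(Y.left, V) ⊗[Γ(X, U)] C)) ⟶ (Y ⊗ pt hU C).left :=
  letI := NormExt.algAppLE Y.hom hVU
  NormExt.qOf hU hV hVU (pt hU C).hom rfl

theorem chart_natural {C' : Type u} [CommRing C'] [Algebra Γ(X, U) C'] (f : C →ₐ[Γ(X, U)] C') :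
    letI := NormExt.algAppLE Y.hom hVU
    Spec.map (CommRingCat.ofHom (Algebra.TensorProduct.map (AlgHom.id Γ(X, U) Γ(Y.left, V)) f).toRingHom) ≫
        chart hU hV hVU C = chart hU hV hVU C' ≫ (Y ◁ ptMap hU f).left := by
  letI := NormExt.algAppLE Y.hom hVU
  have hl : (Algebra.TensorProduct.map (AlgHom.id Γ(X, U) Γ(Y.left, V)) f).toRingHom.comp
      Algebra.TensorProduct.includeLeftRingHom = Algebra.TensorProduct.includeLeftRingHom :=
    RingHom.ext fun y => by simp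
  have hr : (Algebra.TensorProduct.map (AlgHom.id Γ(X, U) Γ(Y.left, V)) f).toRingHom.comp
      (RingHomClass.toRingHom (Algebra.TensorProduct.includeRight (R := Γ(X, U)) (A := Γ(Y.left, V)) (B := C))) =
      (RingHomClass.toRingHom (Algebra.TensorProduct.includeRight (R := Γ(X, U)) (A := Γ(Y.left, V)) (B := C'))).comp
        f.toRingHom :=
    RingHom.ext fun c => by simp
  have e1 : (Y ◁ ptMap hU f).left ≫ pullback.fst Y.hom (pt hU C).hom = pullback.fst Y.hom (pt hU C').hom :=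
    congrArg Over.Hom.left (whiskerLeft_fst Y (ptMap hU f))
  have e2 : (Y ◁ ptMap hU f).left ≫ pullback.snd Y.hom (pt hU C).hom =
      pullback.snd Y.hom (pt hU C').hom ≫ Spec.map (CommRingCat.ofHom f.toRingHom) :=
    congrArg Over.Hom.left (whiskerLeft_snd Y (ptMap hU f))
  apply pullback.hom_ext
  · rw [Category.assoc, Category.assoc, e1, NormExt.qOf_fst, NormExt.qOf_fst, ← Category.assoc, ← Spec.map_comp,
      ← CommRingCat.ofHom_comp, hl]
  · rw [Category.assoc, Category.assoc, e2, NormExt.qOf_snd, ← Category.assoc (chart hU hV hVU C'), NormExt.qOf_snd,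
      ← Spec.map_comp, ← CommRingCat.ofHom_comp, ← Spec.map_comp, ← CommRingCat.ofHom_comp, hr]

/-- A morphism to an affine scheme over the base in a chart. -/
theorem exists_chartHom (Z : Over X) (hZ : IsAffineOpen (Z.hom ⁻¹ᵁ U)) (φ : Y ⊗ pt hU C ⟶ Z) :
    letI := NormExt.algAppLE Y.hom hVU
    letI := NormExt.algAppLE Z.hom (le_refl (Z.hom ⁻¹ᵁ U))
    ∃ χ : Γ(Z.left, Z.hom ⁻¹ᵁ U) →ₐ[Γ(X, U)] Γ(Y.left, V) ⊗[Γ(X, U)] C,
      Spec.map (CommRingCat.ofHom χ.toRingHom) ≫ hZ.fromSpec = chart hU hV hVU C ≫ φ.left := by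
  letI := NormExt.algAppLE Y.hom hVU
  letI := NormExt.algAppLE Z.hom (le_refl (Z.hom ⁻¹ᵁ U))
  have hq : (chart hU hV hVU C ≫ φ.left) ≫ Z.hom =
      Spec.map (CommRingCat.ofHom (algebraMap Γ(X, U) (Γ(Y.left, V) ⊗[Γ(X, U)] C))) ≫ hU.fromSpec := by
    rw [Category.assoc, Over.w φ]
    show chart hU hV hVU C ≫ pullback.fst Y.hom (pt hU C).hom ≫ Y.hom = _
    rw [← Category.assoc, NormExt.qOf_fst, Category.assoc, ← IsAffineOpen.SpecMap_appLE_fromSpec Y.hom hU hV hVU,
      ← Category.assoc, ← Spec.map_comp]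
    rfl
  refine NormExt.exists_algHom Z.hom hU hZ le_rfl _ hq ?_
  rintro _ ⟨z, rfl⟩
  show Z.hom _ ∈ U
  rw [← Scheme.Hom.comp_apply, hq, Scheme.Hom.comp_apply]
  exact hU.range_fromSpec.subset (Set.mem_range_self _)

end Points

variable [IsIntegral X]

/-- The generic point over the base. -/
abbrev gen (X : Scheme.{u}) [IsIntegral X] : Over X := Over.mk (X.fromSpecResidueField (genericPoint X))

theorem hom_gen_ext {W : Over X} (a b : W ⟶ gen X) : a = b :=
  Over.OverMorphism.ext ((cancel_mono (X.fromSpecResidueField (genericPoint X))).1 ((Over.w a).trans (Over.w b).symm))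

/-- Morphisms to a scheme affine over the base are determined on the generic fibre of a flat scheme. -/
theorem hom_ext_gen {Y T : Over X} [Flat Y.hom] [IsAffineHom T.hom] (a b : Y ⟶ T)
    (h : fst Y (gen X) ≫ a = fst Y (gen X) ≫ b) : a = b := by
  refine Over.OverMorphism.ext ?_
  have hh : pullback.fst Y.hom (X.fromSpecResidueField (genericPoint X)) ≫ a.left =
      pullback.fst Y.hom (X.fromSpecResidueField (genericPoint X)) ≫ b.left := congrArg Over.Hom.left h
  have hW : ∀ y : Y.left, ∃ W : Y.left.Opens, y ∈ W ∧ W.ι ≫ a.left = W.ι ≫ b.left := fun y => by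
    obtain ⟨U, hU, hyU, -⟩ := exists_isAffineOpen_mem_and_subset (X := X) (x := Y.hom y) (U := ⊤) trivial
    haveI : Nonempty U := ⟨⟨_, hyU⟩⟩
    obtain ⟨W, hW, hyW, hWU⟩ := exists_isAffineOpen_mem_and_subset (X := Y.left) (x := y) (U := Y.hom ⁻¹ᵁ U) hyU
    refine ⟨W, hyW, ?_⟩
    letI := NormExt.algAppLE Y.hom (U := U) hWU
    letI := NormExt.algAppLE T.hom (le_refl (T.hom ⁻¹ᵁ U))
    have hη := NormExt.genericPoint_mem U
    letI := (X.evaluation U (genericPoint X) hη).hom.toAlgebra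
    haveI := NormExt.isFractionRing_residueField hU hη
    haveI : Module.Flat Γ(X, U) Γ(Y.left, W) := Y.hom.flat_appLE hU hW hWU
    have hTV : IsAffineOpen (T.hom ⁻¹ᵁ U) := hU.preimage T.hom
    have hc : ∀ c : Y ⟶ T, ∃ χ : Γ(T.left, T.hom ⁻¹ᵁ U) →ₐ[Γ(X, U)] Γ(Y.left, W),
        Spec.map (CommRingCat.ofHom χ.toRingHom) ≫ hTV.fromSpec = hW.fromSpec ≫ c.left := fun c => by
      have hq : (hW.fromSpec ≫ c.left) ≫ T.hom =
          Spec.map (CommRingCat.ofHom (algebraMap Γ(X, U) Γ(Y.left, W))) ≫ hU.fromSpec := by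
        rw [Category.assoc, Over.w c]
        exact (IsAffineOpen.SpecMap_appLE_fromSpec Y.hom hU hW hWU).symm
      refine NormExt.exists_algHom T.hom hU hTV le_rfl _ hq ?_
      rintro _ ⟨z, rfl⟩
      show T.hom _ ∈ U
      rw [← Scheme.Hom.comp_apply, hq, Scheme.Hom.comp_apply]
      exact hU.range_fromSpec.subset (Set.mem_range_self _)
    obtain ⟨χ, hχ⟩ := hc a
    obtain ⟨χ', hχ'⟩ := hc b
    let i : Γ(Y.left, W) →ₐ[Γ(X, U)] Γ(Y.left, W) ⊗[Γ(X, U)] X.residueField (genericPoint X) :=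
      Algebra.TensorProduct.includeLeft
    have hi : Spec.map (CommRingCat.ofHom i.toRingHom) ≫ hW.fromSpec =
        NormExt.qOf hU hW hWU _ (NormExt.specMap_evaluation hU hη) ≫ pullback.fst _ _ :=
      (NormExt.qOf_fst hU hW hWU _ _).symm
    have e : ∀ (κ : Γ(T.left, T.hom ⁻¹ᵁ U) →ₐ[Γ(X, U)] Γ(Y.left, W)) (c : Y ⟶ T),
        Spec.map (CommRingCat.ofHom κ.toRingHom) ≫ hTV.fromSpec = hW.fromSpec ≫ c.left →
        Spec.map (CommRingCat.ofHom (i.comp κ).toRingHom) ≫ hTV.fromSpec =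
          NormExt.qOf hU hW hWU _ (NormExt.specMap_evaluation hU hη) ≫ pullback.fst _ _ ≫ c.left := fun κ c hκ => by
      rw [show (i.comp κ).toRingHom = i.toRingHom.comp κ.toRingHom from rfl, CommRingCat.ofHom_comp, Spec.map_comp,
        Category.assoc, hκ, ← Category.assoc, hi, Category.assoc]
    have hic : i.comp χ = i.comp χ' :=
      NormExt.algHom_ext T.hom hTV le_rfl _ _ (by rw [e χ a hχ, e χ' b hχ', hh])
    have hχχ : χ = χ' := AlgHom.ext fun t =>
      Algebra.TensorProduct.includeLeft_injective (S := Γ(X, U))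
        (IsFractionRing.injective Γ(X, U) (X.residueField (genericPoint X))) (AlgHom.congr_fun hic t)
    have h2 : hW.fromSpec ≫ a.left = hW.fromSpec ≫ b.left := by rw [← hχ, ← hχ', hχχ]
    haveI : IsAffine (W : Scheme.{u}) := hW
    rw [← cancel_epi hW.isoSpec.inv, ← Category.assoc, ← Category.assoc, hW.isoSpec_inv_ι]
    exact h2
  choose W hyW hWeq using hW
  exact Scheme.Cover.hom_ext (Scheme.openCoverOfIsOpenCover _ W (TopologicalSpace.IsOpenCover.mk (eq_top_iff.2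
    fun y _ => TopologicalSpace.Opens.mem_iSup.2 ⟨y, hyW y⟩))) _ _ hWeq

/-- What is needed over an affine open: an extension over its integral closure in an algebraic closure. -/
def ExtendsOver (P Q : Over X) (g : P ⊗ gen X ⟶ Q) {U : X.Opens} (hU : IsAffineOpen U)
    (hη : genericPoint X ∈ U) : Prop :=
  letI := (X.evaluation U (genericPoint X) hη).hom.toAlgebra
  ∃ φ : P ⊗ pt hU (integralClosure Γ(X, U) (AlgebraicClosure (X.residueField (genericPoint X)))) ⟶ Q,
    ∀ kL : pt hU (AlgebraicClosure (X.residueField (genericPoint X))) ⟶ gen X,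
      (P ◁ ptMap hU (integralClosure Γ(X, U) (AlgebraicClosure (X.residueField (genericPoint X)))).val) ≫ φ =
        (P ◁ kL) ≫ g

theorem exists_local_hom (hnorm : ∀ x : X, IsIntegrallyClosed (X.presheaf.stalk x)) (P Q : Over X) [Flat P.hom]
    [IsAffineHom P.hom] [IsAffineHom Q.hom] (g : P ⊗ gen X ⟶ Q) {U : X.Opens} (hU : IsAffineOpen U)
    (hη : genericPoint X ∈ U) (hext : ExtendsOver P Q g hU hη) :
    ∃ c : Over.mk ((P.hom ⁻¹ᵁ U).ι ≫ P.hom) ⟶ Q,
      fst _ (gen X) ≫ c = ((Over.homMk (P.hom ⁻¹ᵁ U).ι : Over.mk ((P.hom ⁻¹ᵁ U).ι ≫ P.hom) ⟶ P) ▷ gen X) ≫ g := by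
  haveI : Nonempty U := ⟨⟨_, hη⟩⟩
  have hW : IsAffineOpen (P.hom ⁻¹ᵁ U) := hU.preimage P.hom
  have hV : IsAffineOpen (Q.hom ⁻¹ᵁ U) := hU.preimage Q.hom
  let W := P.hom ⁻¹ᵁ U
  letI := NormExt.algAppLE P.hom (le_refl W)
  letI := NormExt.algAppLE Q.hom (le_refl (Q.hom ⁻¹ᵁ U))
  letI := (X.evaluation U (genericPoint X) hη).hom.toAlgebra
  haveI := NormExt.isFractionRing_residueField hU hη
  haveI : IsDomain Γ(X, U) := inferInstance
  haveI := NormExt.isIntegrallyClosed_sections hnorm hU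
  haveI : Module.Flat Γ(X, U) Γ(P.left, W) := P.hom.flat_appLE hU hW le_rfl
  let K : Type u := X.residueField (genericPoint X)
  let L : Type u := AlgebraicClosure K
  let R' := integralClosure Γ(X, U) L
  obtain ⟨φ, hφ⟩ := hext
  let toGen : pt hU K ⟶ gen X := Over.homMk (𝟙 _) (by
    show 𝟙 _ ≫ X.fromSpecResidueField _ = Spec.map (CommRingCat.ofHom (algebraMap Γ(X, U) K)) ≫ hU.fromSpec
    rw [Category.id_comp]
    exact (NormExt.specMap_evaluation hU hη).symm)
  let i : K →ₐ[Γ(X, U)] L := IsScalarTower.toAlgHom Γ(X, U) K L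
  obtain ⟨ψ, hψ⟩ := exists_chartHom hU hW le_rfl K Q hV ((P ◁ toGen) ≫ g)
  obtain ⟨ψ', hψ'⟩ := exists_chartHom hU hW le_rfl R' Q hV φ
  have hcompat : (Algebra.TensorProduct.map (AlgHom.id Γ(X, U) Γ(P.left, W)) i).comp ψ =
      (Algebra.TensorProduct.map (AlgHom.id Γ(X, U) Γ(P.left, W)) R'.val).comp ψ' := by
    refine NormExt.algHom_ext Q.hom hV le_rfl _ _ ?_
    rw [show ((Algebra.TensorProduct.map (AlgHom.id Γ(X, U) Γ(P.left, W)) i).comp ψ).toRingHom =
        (Algebra.TensorProduct.map (AlgHom.id Γ(X, U) Γ(P.left, W)) i).toRingHom.comp ψ.toRingHom from rfl,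
      show ((Algebra.TensorProduct.map (AlgHom.id Γ(X, U) Γ(P.left, W)) R'.val).comp ψ').toRingHom =
        (Algebra.TensorProduct.map (AlgHom.id Γ(X, U) Γ(P.left, W)) R'.val).toRingHom.comp ψ'.toRingHom from rfl,
      CommRingCat.ofHom_comp, CommRingCat.ofHom_comp, Spec.map_comp, Spec.map_comp, Category.assoc, Category.assoc,
      hψ, hψ', ← Category.assoc, ← Category.assoc, chart_natural, chart_natural, Category.assoc, Category.assoc]
    congr 1
    rw [← Over.comp_left, ← Over.comp_left]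
    congr 1
    rw [hφ (ptMap hU i ≫ toGen), MonoidalCategory.whiskerLeft_comp, Category.assoc]
  have hmem : ∀ b, ∃ a : Γ(P.left, W), a ⊗ₜ[Γ(X, U)] (1 : K) = ψ b := fun b =>
    exists_tmul_one_eq i R'.val Subtype.val_injective
      (fun a d r hd h => dvd_of_mem_integralClosure (K := K) a d r hd h) (ψ b) (ψ' b)
      (AlgHom.congr_fun hcompat b)
  let ι₀ : Γ(P.left, W) →ₐ[Γ(X, U)] Γ(P.left, W) ⊗[Γ(X, U)] K := Algebra.TensorProduct.includeLeft
  have hι₀ : Function.Injective ι₀ :=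
    Algebra.TensorProduct.includeLeft_injective (S := Γ(X, U)) (IsFractionRing.injective Γ(X, U) K)
  have hrange : ∀ b, ψ b ∈ ι₀.range := hmem
  let χ : Γ(Q.left, Q.hom ⁻¹ᵁ U) →ₐ[Γ(X, U)] Γ(P.left, W) :=
    (AlgEquiv.ofInjective ι₀ hι₀).symm.toAlgHom.comp (ψ.codRestrict _ hrange)
  have hχ : ι₀.comp χ = ψ := AlgHom.ext fun b =>
    congrArg Subtype.val ((AlgEquiv.ofInjective ι₀ hι₀).apply_symm_apply _)
  let c : Over.mk (W.ι ≫ P.hom) ⟶ Q :=
    Over.homMk (hW.isoSpec.hom ≫ Spec.map (CommRingCat.ofHom χ.toRingHom) ≫ hV.fromSpec) (by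
      show (hW.isoSpec.hom ≫ _ ≫ hV.fromSpec) ≫ Q.hom = W.ι ≫ P.hom
      rw [Category.assoc, Category.assoc, ← IsAffineOpen.SpecMap_appLE_fromSpec Q.hom hU hV le_rfl,
        ← Category.assoc (Spec.map (CommRingCat.ofHom χ.toRingHom)), ← Spec.map_comp]
      rw [show Q.hom.appLE U (Q.hom ⁻¹ᵁ U) le_rfl ≫ CommRingCat.ofHom χ.toRingHom = P.hom.appLE U W le_rfl from
        CommRingCat.hom_ext χ.comp_algebraMap, IsAffineOpen.SpecMap_appLE_fromSpec P.hom hU hW le_rfl,
        ← Category.assoc]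
      congr 1
      exact hW.isoSpec_hom_fromSpec)
  refine ⟨c, Over.OverMorphism.ext ?_⟩
  obtain ⟨q, hq, hqfst, hqmap⟩ := NormExt.exists_iso_restrict hU hW (le_refl W) (C := K)
    (X.fromSpecResidueField (genericPoint X)) (NormExt.specMap_evaluation hU hη)
  haveI := hq
  rw [← cancel_epi q]
  show q ≫ pullback.fst (W.ι ≫ P.hom) _ ≫ c.left = q ≫ _ ≫ g.left
  have hw : ((Over.homMk W.ι : Over.mk (W.ι ≫ P.hom) ⟶ P) ▷ gen X).left =
      pullback.map (W.ι ≫ P.hom) (gen X).hom P.hom (gen X).hom W.ι (𝟙 _) (𝟙 _) (by rw [Category.comp_id])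
        (by rw [Category.comp_id, Category.id_comp]) := by
    apply pullback.hom_ext
    · rw [pullback.lift_fst]
      exact congrArg Over.Hom.left (whiskerRight_fst (Over.homMk W.ι : Over.mk (W.ι ≫ P.hom) ⟶ P) (gen X))
    · rw [pullback.lift_snd, Category.comp_id]
      exact congrArg Over.Hom.left (whiskerRight_snd (Over.homMk W.ι : Over.mk (W.ι ≫ P.hom) ⟶ P) (gen X))
  refine Eq.trans ?_ (congrArg (fun t => q ≫ t ≫ g.left) hw.symm)
  rw [← Category.assoc, hqfst]
  refine Eq.trans ?_ (Category.assoc _ _ _)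
  refine Eq.trans ?_ (congrArg (· ≫ g.left) hqmap.symm)
  show (Spec.map _ ≫ hW.isoSpec.inv) ≫ hW.isoSpec.hom ≫ _ ≫ _ = _
  rw [Category.assoc, Iso.inv_hom_id_assoc, ← Category.assoc, ← Spec.map_comp]
  refine Eq.trans ?_ (hψ.trans ?_)
  · rw [← hχ]; rfl
  · rw [Over.comp_left, ← Category.assoc]
    congr 1
    apply pullback.hom_ext
    · rw [Category.assoc]
      refine Eq.trans (congrArg (chart hU hW le_rfl K ≫ ·) (congrArg Over.Hom.left (whiskerLeft_fst P toGen))) ?_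
      exact (NormExt.qOf_fst _ _ _ _ _).trans
        (NormExt.qOf_fst hU hW le_rfl (X.fromSpecResidueField _) (NormExt.specMap_evaluation hU hη)).symm
    · rw [Category.assoc]
      refine Eq.trans (congrArg (chart hU hW le_rfl K ≫ ·) ((congrArg Over.Hom.left (whiskerLeft_snd P toGen)).trans
        (Category.comp_id _))) ?_
      exact (NormExt.qOf_snd _ _ _ _ _).trans
        (NormExt.qOf_snd hU hW le_rfl (X.fromSpecResidueField _) (NormExt.specMap_evaluation hU hη)).symm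

/-- A morphism on the generic fibre extends if it does over every affine open. -/
theorem exists_hom_of_extendsOver (hnorm : ∀ x : X, IsIntegrallyClosed (X.presheaf.stalk x)) (P Q : Over X)
    [Flat P.hom] [IsAffineHom P.hom] [IsAffineHom Q.hom] (g : P ⊗ gen X ⟶ Q)
    (hext : ∀ (U : X.Opens) (hU : IsAffineOpen U) (hη : genericPoint X ∈ U), ExtendsOver P Q g hU hη) :
    ∃ φ : P ⟶ Q, fst P (gen X) ≫ φ = g := by
  have hU : ∀ x : X, ∃ U : X.Opens, IsAffineOpen U ∧ x ∈ U ∧ genericPoint X ∈ U := fun x => by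
    obtain ⟨U, hU, hxU, -⟩ := exists_isAffineOpen_mem_and_subset (X := X) (x := x) (U := ⊤) trivial
    haveI : Nonempty U := ⟨⟨_, hxU⟩⟩
    exact ⟨U, hU, hxU, NormExt.genericPoint_mem U⟩
  choose U hUa hxU hηU using hU
  choose c hc using fun x => exists_local_hom hnorm P Q g (hUa x) (hηU x) (hext _ (hUa x) (hηU x))
  let 𝒰 : P.left.OpenCover := Scheme.openCoverOfIsOpenCover _ (fun x => P.hom ⁻¹ᵁ U x)
    (TopologicalSpace.IsOpenCover.mk (eq_top_iff.2 fun p _ =>
      TopologicalSpace.Opens.mem_iSup.2 ⟨P.hom p, hxU (P.hom p)⟩))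
  let j : ∀ x, Over.mk ((P.hom ⁻¹ᵁ U x).ι ≫ P.hom) ⟶ P := fun x => Over.homMk (P.hom ⁻¹ᵁ U x).ι
  have hglue : ∀ x y, pullback.fst (P.hom ⁻¹ᵁ U x).ι (P.hom ⁻¹ᵁ U y).ι ≫ (c x).left =
      pullback.snd (P.hom ⁻¹ᵁ U x).ι (P.hom ⁻¹ᵁ U y).ι ≫ (c y).left := fun x y => by
    let Y : Over X := Over.mk (pullback.fst (P.hom ⁻¹ᵁ U x).ι (P.hom ⁻¹ᵁ U y).ι ≫ (P.hom ⁻¹ᵁ U x).ι ≫ P.hom)
    let a : Y ⟶ Over.mk ((P.hom ⁻¹ᵁ U x).ι ≫ P.hom) := Over.homMk (pullback.fst _ _)
    let b : Y ⟶ Over.mk ((P.hom ⁻¹ᵁ U y).ι ≫ P.hom) := Over.homMk (pullback.snd _ _) (by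
      show pullback.snd _ _ ≫ (P.hom ⁻¹ᵁ U y).ι ≫ P.hom = pullback.fst _ _ ≫ (P.hom ⁻¹ᵁ U x).ι ≫ P.hom
      rw [pullback.condition_assoc])
    haveI : Flat Y.hom := inferInstanceAs (Flat (pullback.fst _ _ ≫ (P.hom ⁻¹ᵁ U x).ι ≫ P.hom))
    have hab : a ≫ j x = b ≫ j y := Over.OverMorphism.ext pullback.condition
    have := hom_ext_gen (a ≫ c x) (b ≫ c y) (by
      rw [← whiskerRight_fst_assoc, ← whiskerRight_fst_assoc b (Z := gen X), hc, hc, ← comp_whiskerRight_assoc, hab,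
        comp_whiskerRight_assoc])
    exact congrArg Over.Hom.left this
  let f : P.left ⟶ Q.left := 𝒰.glueMorphisms (fun x => (c x).left) hglue
  have hf : ∀ x, (P.hom ⁻¹ᵁ U x).ι ≫ f = (c x).left := fun x => 𝒰.ι_glueMorphisms _ _ x
  let φ : P ⟶ Q := Over.homMk f (𝒰.hom_ext _ _ fun x => by
    show (P.hom ⁻¹ᵁ U x).ι ≫ f ≫ Q.hom = (P.hom ⁻¹ᵁ U x).ι ≫ P.hom
    rw [← Category.assoc, hf]
    exact Over.w (c x))
  refine ⟨φ, ?_⟩
  have key : ∀ x, (j x ▷ gen X) ≫ fst P (gen X) ≫ φ = (j x ▷ gen X) ≫ g := fun x => by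
    rw [← hc x, whiskerRight_fst_assoc]
    congr 1
    exact Over.OverMorphism.ext (hf x)
  refine Over.OverMorphism.ext (Scheme.Cover.hom_ext (𝒰.pullback₁ (fst P (gen X)).left) _ _ fun x => ?_)
  have hsq := TorsExtLib.forget_map_whiskerRight (j x) (gen X)
  show pullback.fst (fst P (gen X)).left (P.hom ⁻¹ᵁ U x).ι ≫ _ = pullback.fst (fst P (gen X)).left (P.hom ⁻¹ᵁ U x).ι ≫ _
  refine (cancel_epi hsq.isoPullback.hom).1 ?_
  have hfst := hsq.isoPullback_hom_fst
  refine Eq.trans ((Category.assoc _ _ _).symm.trans (congrArg (· ≫ _) hfst)) ?_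
  refine Eq.trans (congrArg Over.Hom.left (key x)) ?_
  exact (congrArg (· ≫ g.left) hfst).symm.trans (Category.assoc _ _ _)

end NormDescTorsLib
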