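import Groth.Agent.NormDescTorsLib.Torsor
import Groth.Agent.SweepSix.NormSect
import Groth.Agent.NormalExtLib.Scheme

/-!
Sections of finite schemes over a normal integral base from generic sections.
-/

set_option autoImplicit false
set_option backward.isDefEq.respectTransparency false
universe u

open CategoryTheory CategoryTheory.Limits MonoidalCategory CartesianMonoidalCategory AlgebraicGeometry
open NonAbH1

noncomputable section

namespace NormDescTorsLib

theorem hasSectionOver_id_of_generic {X : Scheme.{u}} [IsIntegral X] (hX : Pi1.IsNormalScheme X) (Y : Over X)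
    [IsFinite Y.hom] (h : HasSectionOver Y (X.fromSpecStalk (genericPoint X))) : HasSectionOver Y (𝟙 X) := by
  obtain ⟨s, hs⟩ := h
  obtain ⟨V, hV, f, -, hf, -⟩ :=
    NormalExtLib.exists_spread Y.hom (genericPoint X) ⊤ trivial s hs
  have hd : Dense (V : Set X) := V.2.dense ⟨_, hV⟩
  obtain ⟨σ, hσ, -⟩ := SweepSix.NormSect.exists_section hX Y.hom V hd f hf
  exact ⟨σ, hσ⟩

end NormDescTorsLib
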