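import Groth.Agent.NormDescTorsLib.Ext
import Groth.Agent.TorsExtLib.Props
import Groth.Agent.TorsFpqcLib.Basic
import Groth.Agent.AlgSpLib.AffineFpqc
import Groth.Prelude.Def_ActBC

/-!
Morphisms of torsors under finite flat groups over a normal integral base extend from the generic fibre.
-/

set_option autoImplicit false
set_option backward.isDefEq.respectTransparency false
set_option linter.style.haveILetI false
set_option maxHeartbeats 800000

universe u

open CategoryTheory CategoryTheory.Limits MonoidalCategory CartesianMonoidalCategory AlgebraicGeometry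
open scoped TensorProduct
open NonAbH1 TorsExtLib
open Groth.Agent

noncomputable section

namespace NormDescTorsLib

variable {X : Scheme.{u}} [IsIntegral X]

theorem exists_algHom_algClosed {A M L : Type u} [CommRing A] [CommRing M] [Algebra A M] [Algebra.IsIntegral A M]
    [Field L] [IsAlgClosed L] [Algebra A L] [Nontrivial (M ⊗[A] L)] : Nonempty (M →ₐ[A] L) := by
  haveI : Nontrivial (L ⊗[A] M) := (Algebra.TensorProduct.comm A L M).toEquiv.nontrivial
  obtain ⟨m, hm⟩ := Ideal.exists_maximal (L ⊗[A] M)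
  letI := Ideal.Quotient.field m
  have hb := IsAlgClosed.algebraMap_bijective_of_isIntegral (k := L) (K := (L ⊗[A] M) ⧸ m)
  exact ⟨((AlgEquiv.ofBijective (Algebra.ofId L ((L ⊗[A] M) ⧸ m)) hb).symm.toAlgHom.restrictScalars A).comp
    ((Ideal.Quotient.mkₐ A m).comp Algebra.TensorProduct.includeRight)⟩

theorem eq_of_forall_lift {C : Type*} [Category C] [CartesianMonoidalCategory C] {A B D : C} {f g : A ⊗ B ⟶ D}
    (h : ∀ (W : C) (x : W ⟶ A) (y : W ⟶ B), lift x y ≫ f = lift x y ≫ g) : f = g := by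
  simpa using h _ (fst A B) (snd A B)

variable {U : X.Opens} (hU : IsAffineOpen U)

theorem isIntegral_chart {Y : Over X} [IsIntegralHom Y.hom] {U : X.Opens} (hU : IsAffineOpen U) :
    letI := NormExt.algAppLE Y.hom (le_refl (Y.hom ⁻¹ᵁ U))
    Algebra.IsIntegral Γ(X, U) Γ(Y.left, Y.hom ⁻¹ᵁ U) := by
  letI := NormExt.algAppLE Y.hom (le_refl (Y.hom ⁻¹ᵁ U))
  refine ⟨fun b => ?_⟩
  have h := Y.hom.isIntegral_app U hU b
  rw [← Scheme.Hom.appLE_eq_app] at h
  exact h

/-- A point of a scheme integral over the base with values in an algebraically closed field. -/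
theorem exists_point_algClosed (P : Over X) [IsIntegralHom P.hom] [Surjective P.hom] {L : Type u} [Field L]
    [IsAlgClosed L] [Algebra Γ(X, U) L] : Nonempty (pt hU L ⟶ P) := by
  letI := NormExt.algAppLE P.hom (le_refl (P.hom ⁻¹ᵁ U))
  have hW : IsAffineOpen (P.hom ⁻¹ᵁ U) := hU.preimage P.hom
  haveI := isIntegral_chart (Y := P) hU
  let p : PrimeSpectrum Γ(X, U) := ⟨RingHom.ker (algebraMap Γ(X, U) L), RingHom.ker_isPrime _⟩
  obtain ⟨y, hy⟩ := P.hom.surjective (hU.fromSpec p)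
  haveI := NormExt.nontrivial_tensor P hU hW le_rfl (κ := L) p rfl
    ⟨y, show P.hom y ∈ U from hy ▸ hU.range_fromSpec.subset (Set.mem_range_self _), hy⟩
  obtain ⟨f⟩ := exists_algHom_algClosed (A := Γ(X, U)) (M := Γ(P.left, P.hom ⁻¹ᵁ U)) (L := L)
  refine ⟨Over.homMk (Spec.map (CommRingCat.ofHom f.toRingHom) ≫ hW.fromSpec) ?_⟩
  show (Spec.map _ ≫ hW.fromSpec) ≫ P.hom = Spec.map _ ≫ hU.fromSpec
  rw [Category.assoc, ← IsAffineOpen.SpecMap_appLE_fromSpec P.hom hU hW le_rfl, ← Category.assoc, ← Spec.map_comp]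
  congr 2
  exact CommRingCat.hom_ext f.comp_algebraMap

/-- A point with values in a field of a scheme integral over the base has values in the integral closure. -/
theorem exists_point_integralClosure (Q : Over X) [IsIntegralHom Q.hom] {L : Type u} [Field L] [Algebra Γ(X, U) L]
    (qL : pt hU L ⟶ Q) :
    ∃ q : pt hU (integralClosure Γ(X, U) L) ⟶ Q, ptMap hU (integralClosure Γ(X, U) L).val ≫ q = qL := by
  letI := NormExt.algAppLE Q.hom (le_refl (Q.hom ⁻¹ᵁ U))
  have hV : IsAffineOpen (Q.hom ⁻¹ᵁ U) := hU.preimage Q.hom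
  haveI := isIntegral_chart (Y := Q) hU
  obtain ⟨f, hf⟩ := NormExt.exists_algHom Q.hom hU hV le_rfl qL.left (Over.w qL) (by
    rintro _ ⟨z, rfl⟩
    show Q.hom _ ∈ U
    rw [← Scheme.Hom.comp_apply, Over.w qL]
    show (Spec.map _ ≫ hU.fromSpec) z ∈ U
    rw [Scheme.Hom.comp_apply]
    exact hU.range_fromSpec.subset (Set.mem_range_self _))
  let f' : Γ(Q.left, Q.hom ⁻¹ᵁ U) →ₐ[Γ(X, U)] integralClosure Γ(X, U) L :=
    f.codRestrict _ fun b => (Algebra.IsIntegral.isIntegral (R := Γ(X, U)) b).map f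
  refine ⟨Over.homMk (Spec.map (CommRingCat.ofHom f'.toRingHom) ≫ hV.fromSpec) ?_, Over.OverMorphism.ext ?_⟩
  · show (Spec.map _ ≫ hV.fromSpec) ≫ Q.hom = Spec.map _ ≫ hU.fromSpec
    rw [Category.assoc, ← IsAffineOpen.SpecMap_appLE_fromSpec Q.hom hU hV le_rfl, ← Category.assoc, ← Spec.map_comp]
    congr 2
    exact CommRingCat.hom_ext f'.comp_algebraMap
  · show Spec.map (CommRingCat.ofHom (integralClosure Γ(X, U) L).val.toRingHom) ≫ Spec.map _ ≫ hV.fromSpec = qL.left
    rw [← hf, ← Category.assoc, ← Spec.map_comp]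
    rfl

variable {G P Q : Over X} [GrpObj G] (aP : AlgGrp.Action G P) (aQ : AlgGrp.Action G Q)
  (g : P ⊗ gen X ⟶ Q)
  (hg : ∀ (T : Over X) (h : T ⟶ G) (x : T ⟶ P) (k : T ⟶ gen X),
      lift (lift h x ≫ aP.act) k ≫ g = lift h (lift x k ≫ g) ≫ aQ.act)

include hg in
theorem extendsOver_of_torsor (hP : IsPseudoTorsorSch aP) [IsIntegralHom P.hom] [Surjective P.hom]
    [IsIntegralHom Q.hom] (hη : genericPoint X ∈ U) : ExtendsOver P Q g hU hη := by
  letI := (X.evaluation U (genericPoint X) hη).hom.toAlgebra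
  let K : Type u := X.residueField (genericPoint X)
  let L : Type u := AlgebraicClosure K
  let v := ptMap hU (integralClosure Γ(X, U) L).val
  obtain ⟨pL⟩ := exists_point_algClosed hU P (L := L)
  obtain ⟨p₀, hp₀⟩ := exists_point_integralClosure hU P pL
  let toGen : pt hU K ⟶ gen X := Over.homMk (𝟙 _) (by
    show 𝟙 _ ≫ X.fromSpecResidueField _ = Spec.map (CommRingCat.ofHom (algebraMap Γ(X, U) K)) ≫ hU.fromSpec
    rw [Category.id_comp]
    exact (NormExt.specMap_evaluation hU hη).symm)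
  let k₀ : pt hU L ⟶ gen X := ptMap hU (IsScalarTower.toAlgHom Γ(X, U) K L) ≫ toGen
  obtain ⟨q₀, hq₀⟩ := exists_point_integralClosure hU Q (lift pL k₀ ≫ g)
  haveI := isIso_orb aP hP p₀
  refine ⟨inv (orb aP p₀) ≫ (G ◁ q₀) ≫ aQ.act, fun kL => ?_⟩
  obtain rfl : kL = k₀ := hom_gen_ext _ _
  apply eq_of_forall_lift
  intro W x t
  rw [lift_whiskerLeft_assoc, lift_whiskerLeft_assoc]
  let g₀ : W ⟶ G := lift x (t ≫ v) ≫ inv (orb aP p₀) ≫ fst G _
  have h2 : inv (orb aP p₀) ≫ snd G _ = snd P _ := by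
    rw [IsIso.inv_comp_eq]; simp [orb]
  have h3 : lift g₀ (t ≫ v) = lift x (t ≫ v) ≫ inv (orb aP p₀) := by
    apply CartesianMonoidalCategory.hom_ext <;> simp [g₀, h2]
  have hx : lift g₀ (t ≫ pL) ≫ aP.act = x := by
    have h4 : lift g₀ (t ≫ v) ≫ orb aP p₀ = lift x (t ≫ v) := by
      rw [h3, Category.assoc, IsIso.inv_hom_id, Category.comp_id]
    have h5 := congrArg (· ≫ fst P _) h4
    simp only [orb, Category.assoc, lift_fst, lift_whiskerLeft_assoc] at h5
    rwa [← hp₀]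
  show lift x (t ≫ v) ≫ inv (orb aP p₀) ≫ (G ◁ q₀) ≫ aQ.act = _
  rw [← Category.assoc, ← h3, lift_whiskerLeft_assoc, Category.assoc, hq₀, ← Category.assoc, comp_lift]
  rw [← hg _ g₀ (t ≫ pL) (t ≫ k₀), hx]

variable [IsFinite G.hom] [Flat G.hom]

omit [IsIntegral X] in
/-- An fppf torsor under a finite flat group is finite, flat and surjective over the base. -/
theorem finite_flat_surjective (hP : IsTorsorFor Scheme.fppfPrecoverage aP) :
    IsFinite P.hom ∧ Flat P.hom ∧ Surjective P.hom := by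
  obtain ⟨hp, R, hR, hsec⟩ := hP
  have h : IsTorsorFor Scheme.fpqcPrecoverage aP := ⟨hp, R, Scheme.fppfPrecoverage_le_fpqcPrecoverage _ hR, hsec⟩
  obtain ⟨T, -, hT, -, ⟨p⟩⟩ := exists_cover (S := X) ⟨R, hR, hsec⟩
  refine ⟨TorsFpqc.property_of_torsor @IsFinite aP h ‹_›, TorsFpqc.property_of_torsor @Flat aP h ‹_›, ⟨fun s => ?_⟩⟩
  obtain ⟨t, rfl⟩ := hT.surj s
  exact ⟨p.left t, by rw [← Scheme.Hom.comp_apply, Over.w p]⟩

include hg in
/-- An equivariant morphism of torsors on the generic fibre extends to an equivariant isomorphism. -/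
theorem exists_equivIso (hnorm : ∀ x : X, IsIntegrallyClosed (X.presheaf.stalk x))
    (hP : IsTorsorFor Scheme.fppfPrecoverage aP) (hQ : IsTorsorFor Scheme.fppfPrecoverage aQ) :
    Nonempty (EquivIso aP aQ) := by
  obtain ⟨hPf, hPflat, hPs⟩ := finite_flat_surjective aP hP
  obtain ⟨hQf, -, -⟩ := finite_flat_surjective aQ hQ
  haveI := hPf; haveI := hPflat; haveI := hPs; haveI := hQf
  obtain ⟨φ, hφ⟩ := exists_hom_of_extendsOver hnorm P Q g
    (fun U hU hη => extendsOver_of_torsor hU aP aQ g hg hP.1 hη)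
  have hφx : ∀ (T : Over X) (x : T ⟶ P) (k : T ⟶ gen X), lift x k ≫ g = x ≫ φ := fun T x k => by
    rw [← hφ, lift_fst_assoc]
  haveI : Flat (G ⊗ P).hom := inferInstanceAs (Flat (pullback.fst G.hom P.hom ≫ G.hom))
  have hequiv : aP.act ≫ φ = (G ◁ φ) ≫ aQ.act := by
    apply hom_ext_gen
    apply eq_of_forall_lift
    intro T z k
    obtain ⟨h, x, rfl⟩ : ∃ h x, z = lift h x := ⟨z ≫ fst _ _, z ≫ snd _ _, by simp⟩
    simp only [lift_fst_assoc, lift_whiskerLeft_assoc]
    rw [← Category.assoc, ← hφx T _ k, hg, hφx T _ k]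
  obtain ⟨hp, R, hR, hsec⟩ := hP
  haveI : IsIso φ := TorsFpqc.isIso_of_equivariant aP aQ hp hQ.1
    ⟨R, Scheme.fppfPrecoverage_le_fpqcPrecoverage _ hR, hsec⟩ φ hequiv
  exact ⟨⟨asIso φ, hequiv⟩⟩

end NormDescTorsLib
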